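import Groth.Agent.Lib.BlowUpExist.Proper
import Groth.Agent.Lib.ModM1.QcohCrit
import Groth.Agent.Lib.ModM1.Exact
import Groth.Agent.Lib.ModM1.Pull
import Groth.Prelude.Def_BlowUp2

/-!
# Strict transforms of coherent modules are coherent
-/

set_option autoImplicit false
set_option backward.isDefEq.respectTransparency false
set_option backward.isDefEq.respectTransparency.types false

universe u

open CategoryTheory CategoryTheory.Limits AlgebraicGeometry TopologicalSpace Opposite

namespace Groth.Agent.StrictTr2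

variable {X : Scheme.{u}} [IsLocallyNoetherian X] (J : X.IdealSheafData) {P G : X.Modules}

theorem ideal_basicOpen {U : X.Opens} (hU : IsAffineOpen U) (r : Γ(X, U)) :
    (J.ideal ⟨U, hU⟩).map (X.presheaf.map (homOfLE (X.basicOpen_le r)).op).hom =
      J.ideal ⟨X.basicOpen r, hU.basicOpen r⟩ :=
  J.map_ideal_basicOpen ⟨U, hU⟩ r

/-- A quotient by the sections killed by powers of an ideal is quasi-coherent. -/
theorem isQCoh_of_killedByPower (hP : Coh.IsQCoh P) (π : P ⟶ G) [Epi π]
    (h : ∀ (V : X.affineOpens) (m : P.presheaf.obj (op V.1)),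
      π.app V.1 m = 0 ↔ BlowUp.KilledByPowerNear J P V m) : Coh.IsQCoh G := by
  haveI : P.IsQuasicoherent := hP
  haveI : Coh.IsQCoh P := hP
  let ι := kernel.ι π
  have hS := (ShortComplex.mk ι π (kernel.condition π)).exact_of_f_is_kernel (kernelIsKernel π)
  have lift : ∀ {V : X.Opens} (s : Γ(P, V)), π.app V s = 0 → ∃ k : Γ(kernel π, V), ι.app V k = s :=
    fun {V} s hs => M1.sections_exact hS V s hs
  have kills : ∀ {V : X.Opens} (k : Γ(kernel π, V)), π.app V (ι.app V k) = 0 := fun {V} k => by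
    show (ι ≫ π).app V k = 0
    rw [kernel.condition]; rfl
  have hK : Coh.IsQCoh (kernel π) := by
    refine M1.isQCoh_of_loc_affine _ (fun U hU r t => ?_) (fun U hU r t ht => ?_)
    · obtain ⟨k, t₁, ht₁⟩ := M1.exists_pow_smul_eq_res_affine P hU r (ι.app _ t)
      obtain ⟨n, hn⟩ := (h ⟨X.basicOpen r, hU.basicOpen r⟩ (ι.app _ t)).1 (kills t)
      haveI : IsNoetherianRing Γ(X, U) := IsLocallyNoetherian.component_noetherian ⟨U, hU⟩
      obtain ⟨s, hs⟩ := ((inferInstance : IsNoetherian Γ(X, U) Γ(X, U)).noetherian ((J ^ n).ideal ⟨U, hU⟩))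
      have hres : ∀ a ∈ (J ^ n).ideal ⟨U, hU⟩, ∃ N : ℕ, r ^ N • a • t₁ = 0 := by
        intro a ha
        refine M1.exists_pow_smul_eq_zero_affine P hU r _ ?_
        have hmem : M1.ores (X.basicOpen_le r) a ∈ (J ^ n).ideal ⟨X.basicOpen r, hU.basicOpen r⟩ := by
          rw [← ideal_basicOpen (J ^ n) hU r]
          exact Ideal.mem_map_of_mem _ ha
        rw [M1.mres_smul, ht₁, smul_comm, hn _ hmem, smul_zero]
      choose N hN using hres
      classical
      let N₀ := s.attach.sup fun a => N a.1 (hs ▸ Ideal.subset_span a.2)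
      have hkill : ∀ a ∈ (J ^ n).ideal ⟨U, hU⟩, a • r ^ N₀ • t₁ = 0 := by
        intro a ha
        rw [← hs] at ha
        refine Submodule.span_induction (p := fun a _ => a • r ^ N₀ • t₁ = 0) ?_ (zero_smul _ _)
          (fun a b _ _ ha hb => by rw [add_smul, ha, hb, add_zero])
          (fun c a _ ha => by rw [smul_eq_mul, mul_smul, ha, smul_zero]) ha
        intro a ha
        have hle : N a (hs ▸ Ideal.subset_span ha) ≤ N₀ :=
          Finset.le_sup (f := fun a : s => N a.1 (hs ▸ Ideal.subset_span a.2)) (Finset.mem_attach s ⟨a, ha⟩)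
        rw [smul_comm, ← Nat.sub_add_cancel hle, pow_add, mul_smul, hN, smul_zero]
      obtain ⟨t₀, ht₀⟩ := lift (r ^ N₀ • t₁) ((h ⟨U, hU⟩ _).2 ⟨n, hkill⟩)
      refine ⟨N₀ + k, t₀, M1.app_injective ι _ ?_⟩
      rw [M1.app_mres, ht₀, M1.mres_smul, ht₁, Scheme.Modules.Hom.app_smul, map_pow, ← mul_smul, ← pow_add]
    · have h0 : M1.mres P (X.basicOpen_le r) (ι.app U t) = 0 := by rw [← M1.app_mres, ht, map_zero]
      obtain ⟨n, hn⟩ := M1.exists_pow_smul_eq_zero_affine P hU r (ι.app U t) h0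
      exact ⟨n, M1.app_injective ι U (by rw [Scheme.Modules.Hom.app_smul, hn, map_zero])⟩
  exact M1.isQCoh_of_isIso
    ((colimit.isColimit _).coconePointUniqueUpToIso (Abelian.epiIsCokernelOfKernel _ (kernelIsKernel π)))
    (M1.isQCoh_cokernel hK hP ι)

end Groth.Agent.StrictTr2
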